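import Mathlib
import Groth.Prelude.Def_EGA4Misc
import Groth.Agent.Lib.Helper4.FibDimBC1
import Groth.Agent.Lib.Helper2.FibDim.GenSpread
import Groth.Agent.Lib.Helper2.FibDim.Constr

set_option autoImplicit false
set_option linter.style.haveILetI false
set_option linter.unusedVariables false
set_option linter.unusedSectionVars false
set_option backward.isDefEq.respectTransparency.types false

open CategoryTheory CategoryTheory.Limits AlgebraicGeometry Opposite Topology TopologicalSpace

universe u

/-! helper7: the dimension of an algebraic scheme over a field is invariant under extension of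
the base field, the dimension of the fibres of a morphism of finite type is constant near the
generic point of an irreducible base, and "the dimension belongs to a given set" is a
constructible property of algebraic schemes. -/

namespace Groth.Agent.Helper7.DimCons

/-- over a one-point base the fibre has the dimension of the total space. -/
theorem dim_fiber_of_subsingleton {Y T : Scheme.{u}} (g : Y ⟶ T) [Subsingleton T] (t : T) :
    topologicalKrullDim ↥(g.fiber t) = topologicalKrullDim ↥Y := by
  have hsurj : Function.Surjective (g.fiberι t) := by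
    rw [← Set.range_eq_univ, g.range_fiberι t]
    ext y
    simp only [Set.mem_preimage, Set.mem_singleton_iff, Set.mem_univ, iff_true]
    exact Subsingleton.elim _ _
  have hemb : IsEmbedding (g.fiberι t) := (g.fiberι t).isEmbedding
  have hhom : IsHomeomorph (g.fiberι t) :=
    (hemb.toHomeomorphOfSurjective hsurj).isHomeomorph
  exact IsHomeomorph.topologicalKrullDim_eq _ hhom

/-- the dimension of an algebraic scheme over a field does not change under extension of the base
field. -/
theorem dim_eq_of_isPullback {Y Y' T T' : Scheme.{u}} (g : Y ⟶ T) (g' : Y' ⟶ T') (e : Y' ⟶ Y)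
    (h : T' ⟶ T) [Subsingleton T] [Subsingleton T'] [Nonempty T'] [LocallyOfFiniteType g]
    (hsq : IsPullback e g' g h) : topologicalKrullDim ↥Y' = topologicalKrullDim ↥Y := by
  obtain ⟨t'⟩ := (inferInstance : Nonempty T')
  rw [← dim_fiber_of_subsingleton g' t', ← dim_fiber_of_subsingleton g (h t')]
  exact Groth.Agent.Lib.Helper4.FibDimBC1.S9777_main g h g' e hsq t'

theorem isFieldStable_dim_mem (Φ : Set (WithBot ℕ∞)) :
    ConsProp.IsFieldStable (fun Y T g => topologicalKrullDim ↥Y ∈ Φ) := by
  intro Y Y' T T' g g' e h _ _ _ _ _ _ hsq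
  show topologicalKrullDim ↥Y ∈ Φ ↔ topologicalKrullDim ↥Y' ∈ Φ
  rw [dim_eq_of_isPullback g g' e h hsq]

/-- near the generic point the dimension of the fibres is constant. -/
theorem exists_open_dim_fiber_eq {X S : Scheme.{u}} (f : X ⟶ S) [IrreducibleSpace ↥S]
    [LocallyOfFiniteType f] [QuasiCompact f] :
    ∃ V : S.Opens, (V : Set ↥S).Nonempty ∧ ∀ y ∈ V,
      topologicalKrullDim ↥(f.fiber y) = topologicalKrullDim ↥(f.fiber (genericPoint ↥S)) := by
  have hne := Groth.Agent.Helper2.FibDim.dim_fiber_ne_top f (genericPoint ↥S)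
  induction hn : topologicalKrullDim ↥(f.fiber (genericPoint ↥S)) using WithBot.recBotCoe with
  | bot =>
    have h0 : ¬ ((0 : ℕ) : WithBot ℕ∞) ≤ topologicalKrullDim ↥(f.fiber (genericPoint ↥S)) := by
      rw [hn]
      simp
    obtain ⟨V, hηV, hV⟩ := Groth.Agent.Helper2.FibDim.exists_open_dim_fiber_lt f 0 h0
    refine ⟨V, ⟨_, hηV⟩, fun y hy => ?_⟩
    have h1 := hV y hy
    by_contra h2
    apply h1
    induction hd : topologicalKrullDim ↥(f.fiber y) using WithBot.recBotCoe with
    | bot => exact absurd hd h2
    | coe a => simp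
  | coe m =>
    induction m using ENat.recTopCoe with
    | top => exact absurd hn hne
    | coe k =>
      obtain ⟨V, hVne, hV⟩ := Groth.Agent.Helper2.FibDim.S1332_main f k hn
      exact ⟨V, hVne, fun y hy => hV y hy⟩

/-- the dimension of the fibres belongs to a given set: a constructible property. -/
theorem isCons_dim_mem (Φ : Set (WithBot ℕ∞)) :
    ConsProp.IsCons (fun Y T g => topologicalKrullDim ↥Y ∈ Φ) := by
  refine ⟨isFieldStable_dim_mem Φ, ?_⟩
  intro X S u _ _ _ _
  obtain ⟨V, ⟨x, hx⟩, hV⟩ := exists_open_dim_fiber_eq u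
  by_cases hΦ : topologicalKrullDim ↥(u.fiber (genericPoint ↥S)) ∈ Φ
  · refine Or.inl ⟨x, mem_interior.mpr ⟨V, ?_, V.2, hx⟩⟩
    intro y hy
    show topologicalKrullDim ↥(u.fiber y) ∈ Φ
    rw [hV y hy]
    exact hΦ
  · refine Or.inr ⟨x, mem_interior.mpr ⟨V, ?_, V.2, hx⟩⟩
    intro y hy hmem
    apply hΦ
    have h1 : topologicalKrullDim ↥(u.fiber y) ∈ Φ := hmem
    rw [hV y hy] at h1
    exact h1

end Groth.Agent.Helper7.DimCons
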